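import Mathlib
import Cfsg.Agent.Lib.MultC.Model

/-! permutation model of degree 24: generators and a stabiliser chain (generated) -/

set_option autoImplicit false
set_option maxRecDepth 100000

namespace CfsgLib.MultC.M23

open CfsgLib.Comput CfsgLib.MultC

noncomputable def u0_0 : Net :=
  Net.cons 1 0x404510
  (Net.cons 2 0x222000
  (Net.cons 4 0x50000
  (Net.cons 8 80
  (Net.cons 16 249
  (Net.cons 8 214
  (Net.cons 4 0x70a09
  (Net.cons 2 0x232333
  (Net.cons 1 0x410050
  (Net.nil)))))))))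

noncomputable def u0_1 : Net :=
  Net.cons 1 0x411550
  (Net.cons 2 0x322110
  (Net.cons 4 0xb0300
  (Net.cons 8 140
  (Net.cons 16 188
  (Net.cons 8 11
  (Net.cons 4 0x50e06
  (Net.cons 2 0x123200
  (Net.cons 1 0x500051
  (Net.nil)))))))))

noncomputable def u1_0 : Net :=
  Net.cons 1 0x40104
  (Net.cons 2 0x12220
  (Net.cons 4 0xb0c00
  (Net.cons 8 65
  (Net.cons 16 231
  (Net.cons 8 229
  (Net.cons 4 0xc0e08
  (Net.cons 2 0x131210
  (Net.cons 1 0x140054
  (Net.nil)))))))))

noncomputable def u1_1 : Net :=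
  Net.cons 1 0x154144
  (Net.cons 2 0x11100
  (Net.cons 4 0xb0100
  (Net.cons 8 18
  (Net.cons 16 178
  (Net.cons 8 224
  (Net.cons 4 0xf0c00
  (Net.cons 2 0x133232
  (Net.cons 1 0x4054
  (Net.nil)))))))))

noncomputable def u2_0 : Net :=
  Net.cons 1 0x44500
  (Net.cons 2 0x3000
  (Net.cons 4 0xe0200
  (Net.cons 8 70
  (Net.cons 16 230
  (Net.cons 8 82
  (Net.cons 4 0xe0a00
  (Net.cons 2 0x32200
  (Net.cons 1 0x114510
  (Net.nil)))))))))

noncomputable def u2_1 : Net :=
  Net.cons 1 0x104540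
  (Net.cons 2 0x30210
  (Net.cons 4 0xe0400
  (Net.cons 8 194
  (Net.cons 16 198
  (Net.cons 8 30
  (Net.cons 4 0xb060c
  (Net.cons 2 0x23330
  (Net.cons 1 0x14000
  (Net.nil)))))))))

noncomputable def u3_0 : Net :=
  Net.cons 1 0x400050
  (Net.cons 2 0x120000
  (Net.cons 4 0x20200
  (Net.cons 8 197
  (Net.cons 16 229
  (Net.cons 8 229
  (Net.cons 4 0x908
  (Net.cons 2 0x113110
  (Net.cons 1 0x505410
  (Net.nil)))))))))

noncomputable def u3_1 : Net :=
  Net.cons 1 0x541500
  (Net.cons 2 0x111020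
  (Net.cons 4 0x80c00
  (Net.cons 8 41
  (Net.cons 16 233
  (Net.cons 8 89
  (Net.cons 4 0xa0708
  (Net.cons 2 0x103010
  (Net.cons 1 0x404010
  (Net.nil)))))))))

noncomputable def u4_0 : Net :=
  Net.cons 1 0x544100
  (Net.cons 2 0x203000
  (Net.cons 4 0x20400
  (Net.cons 8 57
  (Net.cons 16 185
  (Net.cons 8 73
  (Net.cons 4 0x30900
  (Net.cons 2 0x13000
  (Net.cons 1 0x545500
  (Net.nil)))))))))

noncomputable def u4_1 : Net :=
  Net.cons 1 0x500400
  (Net.cons 2 0x302000
  (Net.cons 4 0xb0800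
  (Net.cons 8 14
  (Net.cons 16 222
  (Net.cons 8 14
  (Net.cons 4 0xb0300
  (Net.cons 2 0x100200
  (Net.cons 1 0x500400
  (Net.nil)))))))))

noncomputable def u4_2 : Net :=
  Net.cons 1 0x54400
  (Net.cons 2 0x311200
  (Net.cons 4 0xc0400
  (Net.cons 8 141
  (Net.cons 16 205
  (Net.cons 8 45
  (Net.cons 4 0xc0800
  (Net.cons 2 0x223030
  (Net.cons 1 0x105010
  (Net.nil)))))))))

noncomputable def u5_0 : Net :=
  Net.cons 1 0x440500
  (Net.cons 2 0x103000
  (Net.cons 4 0xf0000
  (Net.cons 8 182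
  (Net.cons 16 182
  (Net.cons 8 86
  (Net.cons 4 0x30800
  (Net.cons 2 0x122000
  (Net.cons 1 0x455440
  (Net.nil)))))))))

noncomputable def V0 : List Net := [u0_0, u0_1]
noncomputable def U0 : List Net := (V0 ++ revL V0)
noncomputable def V1 : List Net := [u1_0, u1_1]
noncomputable def U1 : List Net := U0 ++ (V1 ++ revL V1)
noncomputable def V2 : List Net := [u2_0, u2_1]
noncomputable def U2 : List Net := U1 ++ (V2 ++ revL V2)
noncomputable def V3 : List Net := [u3_0, u3_1]
noncomputable def U3 : List Net := U2 ++ (V3 ++ revL V3)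
noncomputable def V4 : List Net := [u4_0, u4_1, u4_2]
noncomputable def U4 : List Net := U3 ++ (V4 ++ revL V4)
noncomputable def V5 : List Net := [u5_0]
noncomputable def U5 : List Net := U4 ++ (V5 ++ revL V5)
noncomputable def U : List Net := U5

theorem v1 : wordsOK 24 5 U0 V1 [[0x104040102010104], [0x302020101020203020203]] = true := by decide +kernel
theorem v2 : wordsOK 24 5 U1 V2 [[0x7060706070805], [0x7060707060505]] = true := by decide +kernel
theorem v3 : wordsOK 24 5 U2 V3 [[0xc0b0a0a090c09], [0xa0a0b0a0a]] = true := by decide +kernel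
theorem v4 : wordsOK 24 5 U3 V4 [[0xf100d0d0d0e0e0f], [0xe0d0d10], [0xd0e0d0e0d0d]] = true := by decide +kernel
theorem v5 : wordsOK 24 5 U4 V5 [[0x13141615141611]] = true := by decide +kernel

theorem realU {G Ω : Type*} [Group G] [MulAction G Ω] {pt : ℕ → Ω} (h : AllReal G 24 pt V0) :
    AllReal G 24 pt U := by
  have h0 : AllReal G 24 pt U0 := h.append h.rev
  have k1 : AllReal G 24 pt V1 := h0.words (by norm_num) v1
  have h1 : AllReal G 24 pt U1 := h0.append (k1.append k1.rev)
  have k2 : AllReal G 24 pt V2 := h1.words (by norm_num) v2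
  have h2 : AllReal G 24 pt U2 := h1.append (k2.append k2.rev)
  have k3 : AllReal G 24 pt V3 := h2.words (by norm_num) v3
  have h3 : AllReal G 24 pt U3 := h2.append (k3.append k3.rev)
  have k4 : AllReal G 24 pt V4 := h3.words (by norm_num) v4
  have h4 : AllReal G 24 pt U4 := h3.append (k4.append k4.rev)
  have k5 : AllReal G 24 pt V5 := h4.words (by norm_num) v5
  have h5 : AllReal G 24 pt U5 := h4.append (k5.append k5.rev)
  exact h5

end CfsgLib.MultC.M23
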