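import Mathlib
import Cfsg.Agent.Lib.MultC.M23.Base

/-! multiplier certificate for the prime 2 (generated) -/

set_option autoImplicit false
set_option maxRecDepth 100000

namespace CfsgLib.MultC.M23.P2

open CfsgLib.Comput CfsgLib.MultC

noncomputable def x0 : Net :=
  Net.cons 1 0x511440
  (Net.cons 2 0x102020
  (Net.cons 4 0x60800
  (Net.cons 8 33
  (Net.cons 16 37
  (Net.cons 8 57
  (Net.cons 4 0x60802
  (Net.cons 2 0x302220
  (Net.cons 1 0x511440
  (Net.nil)))))))))

noncomputable def x1 : Net :=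
  Net.cons 1 0x504400
  (Net.cons 2 0x202200
  (Net.cons 4 0x10d00
  (Net.cons 8 1
  (Net.cons 16 17
  (Net.cons 8 47
  (Net.cons 4 0x30d00
  (Net.cons 2 0x202200
  (Net.cons 1 0x544400
  (Net.nil)))))))))

noncomputable def x2 : Net :=
  Net.cons 1 0x150140
  (Net.cons 2 0x230310
  (Net.cons 4 0x10d00
  (Net.cons 8 3
  (Net.cons 16 23
  (Net.cons 8 195
  (Net.cons 4 0x90d00
  (Net.cons 2 0x230312
  (Net.cons 1 0x150140
  (Net.nil)))))))))

noncomputable def x3 : Net :=
  Net.cons 1 0x111500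
  (Net.cons 2 0x211300
  (Net.cons 4 0x20800
  (Net.cons 8 160
  (Net.cons 16 176
  (Net.cons 8 238
  (Net.cons 4 0x60c04
  (Net.cons 2 0x211300
  (Net.cons 1 0x111500
  (Net.nil)))))))))

noncomputable def x4 : Net :=
  Net.cons 1 0x511010
  (Net.cons 2 0x11000
  (Net.cons 4 0xa0800
  (Net.cons 8 10
  (Net.cons 16 46
  (Net.cons 8 138
  (Net.cons 4 0xa0c00
  (Net.cons 2 0x11002
  (Net.cons 1 0x551010
  (Net.nil)))))))))

noncomputable def x5 : Net :=
  Net.cons 1 0x514010
  (Net.cons 2 0x113100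
  (Net.cons 4 0x40400
  (Net.cons 8 194
  (Net.cons 16 230
  (Net.cons 8 134
  (Net.cons 4 260
  (Net.cons 2 0x113102
  (Net.cons 1 0x514010
  (Net.nil)))))))))

noncomputable def x6 : Net :=
  Net.cons 1 0x100000
  (Net.cons 2 0x101100
  (Net.cons 4 0x50600
  (Net.cons 8 37
  (Net.cons 16 55
  (Net.cons 8 101
  (Net.cons 4 0x50600
  (Net.cons 2 0x103100
  (Net.cons 1 0x100004
  (Net.nil)))))))))

noncomputable def x7 : Net :=
  Net.cons 1 0x540100
  (Net.cons 2 544
  (Net.cons 4 0x40a00
  (Net.cons 8 72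
  (Net.cons 16 200
  (Net.cons 8 116
  (Net.cons 4 0xd0d08
  (Net.cons 2 0x2200
  (Net.cons 1 0x404504
  (Net.nil)))))))))

noncomputable def x8 : Net :=
  Net.cons 1 0x414040
  (Net.cons 2 0x211000
  (Net.cons 4 0xa0400
  (Net.cons 8 40
  (Net.cons 16 188
  (Net.cons 8 104
  (Net.cons 4 0x20700
  (Net.cons 2 0x10010
  (Net.cons 1 0x515504
  (Net.nil)))))))))

noncomputable def x9 : Net :=
  Net.cons 1 0x15100
  (Net.cons 2 0x100130
  (Net.cons 4 0x10400
  (Net.cons 8 3
  (Net.cons 16 59
  (Net.cons 8 67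
  (Net.cons 4 0x30709
  (Net.cons 2 0x121102
  (Net.cons 1 0x105015
  (Net.nil)))))))))

noncomputable def x10 : Net :=
  Net.cons 1 0x451000
  (Net.cons 2 0x10000
  (Net.cons 4 0x800
  (Net.cons 8 25
  (Net.cons 16 153
  (Net.cons 8 25
  (Net.cons 4 0x30b00
  (Net.cons 2 0x10010
  (Net.cons 1 0x451400
  (Net.nil)))))))))

noncomputable def X : List Net := [x0, x1, x2, x3, x4, x5, x6, x7, x8, x9, x10]

def D : Dat := ⟨1, 7, 1,
  0x10204081020004081060400281020c00281020014c800500,
  23, 0x101010082a0202020201808080808060202020101,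
  0x1c0234402b02068a02494183a69a1220682480801,
  0x33333222222111111000000, 2⟩

def R0 : List (ℕ × ℕ × ℕ × List ℕ) := [(2, 1, 0, [113, 145]),
  (2, 0, 0, [97, 145]),
  (4, 2, 1, [193, 225]),
  (4, 1, 1, [177, 225]),
  (8, 3, 2, [289, 321]),
  (8, 2, 2, [273, 321]),
  (16, 4, 0, [305, 321]),
  (16, 0, 0, [241, 321]),
  (16, 4, 3, [401, 433]),
  (16, 3, 3, [385, 433]),
  (32, 5, 1, [417, 433]),
  (32, 1, 1, [353, 433]),
  (16, 3, 1, [353]),
  (4, 2, 0, [273, 321, 369, 417, 433]),
  (4, 0, 0, [241, 321, 337, 417, 433]),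
  (16, 3, 0, [289, 337, 417]),
  (8, 2, 1, [209, 257, 305, 417, 433]),
  (4, 1, 0, [129, 161, 209, 257, 289, 321, 353, 401, 433])]
def R1 : List (ℕ × List ℕ × List ℕ × List ℕ) := [(0, [1, 1], [], [33, 225]),
  (0, [2, 2], [], [145, 321]),
  (0, [0, 3], [4, 3, 0], [17, 209, 417, 433, 513]),
  (1, [7, 7], [], [81, 225, 401, 433]),
  (1, [6, 6], [], [1, 145, 385, 433]),
  (1, [6, 7], [11, 10, 7, 6], [49, 209, 321, 385, 401, 417, 609, 625]),
  (1, [6, 9], [10, 9, 6], [129, 161, 209, 289, 305, 321, 369, 385, 401, 609]),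
  (2, [13, 14], [16, 14, 13], [273, 705]),
  (2, [14, 15], [17, 15, 14], [129, 273, 289, 321, 721]),
  (2, [12, 15], [16, 15, 12], [49, 129, 209, 241, 289, 369, 385, 417, 433, 705]),
  (3, [19, 19], [], [81, 321]),
  (3, [18, 21], [22, 21, 18], [65, 129, 209, 257, 289, 305, 321, 385, 801])]

noncomputable def A : LA := ⟨12, [[513, 545], [465, 721, 801], [561, 625, 801], [513, 625, 721], [721, 801], [721], [625, 721]],
  [], [],
  Dat.sps R0 ++ (Dat.sps R1),
  [0x10010001101101010010000,
  0x1111100100111100101100010000,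
  0x10000001001001101100110010000,
  0x1100000111111010110110000,
  0x100100000000011100011010110000,
  0x10000000000001101100010010000,
  0x10001101100010010010,
  0x10001101100010010001,
  0x100000000001101100010100000,
  0x10001101100010010000,
  0x100000000110001010101100000,
  0x10000001000001101100110011000,
  0x10000001000001101100110010100,
  0x1111100000111100111100010000,
  0x10000001000001101100110010000,
  0x1101100000010000,
  0x1111100000100001001111000000,
  0x1101100010110000,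
  0x1101100010000000,
  0x1101100011010000,
  0x1101100010010000,
  0x100010010000000,
  0x1000000000000,
  0x10010000100000,
  0x1101000000000,
  0x1100100000000,
  0x1110000000000,
  0x1100000000000],
  []⟩

def lv : LB := [(1, 1, [7, 6, 4, 1]), (4, 1, [0x506, 0x306, 0x204])]

theorem r0 : D.consAll 8 R0 = true := by decide +kernel
theorem r1 : D.fusAll 12 R1 = true := by decide +kernel
theorem xw : wordsOK 24 5 U X [[0x5080a090a0b0d100f12], [0x8050a0a100f13], [0x7070c090d101218], [0x8050e0f1318], [0x7070c090d10111211], [0x7070c090d101113], [0x706090c090e0f121117], [0xa090a0d100d0d111218], [0x90a0b10100d0d161418], [0x3030207070c090a100d0d121117], [0x1318]] = true := by decide +kernel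
theorem c1_0 : allRg (D.rowChk (stepT 24 5 X) (idTab 24 5)) 0 7 = true := by decide +kernel
theorem c2_0 : allRg (D.fusChk (stepT 24 5 X) (idTab 24 5)) 0 23 = true := by decide +kernel
theorem c3 : lbOK 24 X 7 (2 ^ 7) lv = true := by decide +kernel
theorem c4 : D.basicOK A = true := by decide +kernel
theorem c5_0 : allRg (D.rowOK A) 0 7 = true := by decide +kernel

theorem pb {G : Type*} {Ω : Type*} [Group G] [MulAction G Ω] {pt : ℕ → Ω} (M : PModel G 24 pt)
    (h : AllReal G 24 pt V0) (hG : Nat.card G = 10200960) : PBound G 2 [] :=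
  M.pBound (W := X) (k := 5) (D := D) (A := A) ((realU h).words (by norm_num) xw) (by norm_num) (by norm_num) rfl 0 rfl
    (by decide) rfl (by decide) (allRg_zero c1_0) (allRg_zero c2_0) c3 hG
    (by decide +kernel) ((D.allGood_cons 8 R0 (by norm_num) r0).append (D.allGood_fus 12 R1 (by norm_num) r1)) c4 (allRg_zero c5_0)

end CfsgLib.MultC.M23.P2
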