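import Mathlib
import Cfsg.Agent.Lib.MultC.M23.Base

/-! multiplier certificate for the prime 3 (generated) -/

set_option autoImplicit false
set_option maxRecDepth 100000

namespace CfsgLib.MultC.M23.P3

open CfsgLib.Comput CfsgLib.MultC

noncomputable def x0 : Net :=
  Net.cons 1 0x14100
  (Net.cons 2 0x21120
  (Net.cons 4 0x10200
  (Net.cons 8 12
  (Net.cons 16 28
  (Net.cons 8 164
  (Net.cons 4 0x30604
  (Net.cons 2 0x21330
  (Net.cons 1 0x100144
  (Net.nil)))))))))

noncomputable def x1 : Net :=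
  Net.cons 1 0x514400
  (Net.cons 2 0x32000
  (Net.cons 4 0xc0000
  (Net.cons 8 8
  (Net.cons 16 200
  (Net.cons 8 44
  (Net.cons 4 0xe0808
  (Net.cons 2 0x32110
  (Net.cons 1 0x410400
  (Net.nil)))))))))

noncomputable def x2 : Net :=
  Net.cons 1 0x404400
  (Net.cons 2 0x23000
  (Net.cons 4 0x50000
  (Net.cons 8 192
  (Net.cons 16 216
  (Net.cons 8 224
  (Net.cons 4 0x70000
  (Net.cons 2 0x23100
  (Net.cons 1 0x404440
  (Net.nil)))))))))

noncomputable def x3 : Net :=
  Net.cons 1 0x154000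
  (Net.cons 2 0x122300
  (Net.cons 4 0x10900
  (Net.cons 8 11
  (Net.cons 16 27
  (Net.cons 8 35
  (Net.cons 4 0x50004
  (Net.cons 2 0x102200
  (Net.cons 1 0x140541
  (Net.nil)))))))))

noncomputable def X : List Net := [x0, x1, x2, x3]

def D : Dat := ⟨2, 2, 2,
  64,
  4, 0x4141,
  0x1482,
  0x1100, 3⟩

def R0 : List (ℕ × List ℕ × List ℕ × List ℕ) := [(0, [0, 0, 0], [], [1]),
  (0, [1, 1, 1], [], [33]),
  (1, [2, 3], [3, 2], [17])]

noncomputable def A : LA := ⟨8, [[49], [65]],
  [], [],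
  Dat.sps R0,
  [2,
  512,
  32],
  []⟩

def lv : LB := [(2, 1, [2, 2, 1, 1])]

theorem r0 : D.fusAll 8 R0 = true := by decide +kernel
theorem xw : wordsOK 24 5 U X [[0xb0a0b0e0d1112], [0x90c09100f11], [0xf0e0d0d1418], [0x30404010808090a0b0d10131217]] = true := by decide +kernel
theorem c1_0 : allRg (D.rowChk (stepT 24 5 X) (idTab 24 5)) 0 2 = true := by decide +kernel
theorem c2_0 : allRg (D.fusChk (stepT 24 5 X) (idTab 24 5)) 0 4 = true := by decide +kernel
theorem c3 : lbOK 24 X 2 (3 ^ 2) lv = true := by decide +kernel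
theorem c4 : D.basicOK A = true := by decide +kernel
theorem c5_0 : allRg (D.rowOK A) 0 2 = true := by decide +kernel

theorem pb {G : Type*} {Ω : Type*} [Group G] [MulAction G Ω] {pt : ℕ → Ω} (M : PModel G 24 pt)
    (h : AllReal G 24 pt V0) (hG : Nat.card G = 10200960) : PBound G 3 [] :=
  M.pBound (W := X) (k := 5) (D := D) (A := A) ((realU h).words (by norm_num) xw) (by norm_num) (by norm_num) rfl 0 rfl
    (by decide) rfl (by decide) (allRg_zero c1_0) (allRg_zero c2_0) c3 hG
    (by decide +kernel) (D.allGood_fus 8 R0 (by norm_num) r0) c4 (allRg_zero c5_0)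

end CfsgLib.MultC.M23.P3
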