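import Mathlib
import Cfsg.Agent.Lib.MultC.Out

/-! generated certificate -/

set_option autoImplicit false
set_option maxRecDepth 100000
set_option Elab.async false

namespace CfsgLib.MultC.M23.O

open CfsgLib.Comput CfsgLib.MultC

noncomputable def u0_0 : Net :=
  Net.cons 1 0x101540
  (Net.cons 2 0x310100
  (Net.cons 4 0x80700
  (Net.cons 8 26
  (Net.cons 16 219
  (Net.cons 8 192
  (Net.cons 4 0x90f02
  (Net.cons 2 0x221231
  (Net.cons 1 0x55415
  (Net.nil)))))))))

noncomputable def u0_1 : Net :=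
  Net.cons 1 0x41040
  (Net.cons 2 0x320110
  (Net.cons 4 0xb0200
  (Net.cons 8 41
  (Net.cons 16 233
  (Net.cons 8 149
  (Net.cons 4 0x70604
  (Net.cons 2 0x201012
  (Net.cons 1 0x54450
  (Net.nil)))))))))

noncomputable def u0_2 : Net :=
  Net.cons 1 0x401050
  (Net.cons 2 0x302200
  (Net.cons 4 0xb0100
  (Net.cons 8 90
  (Net.cons 16 222
  (Net.cons 8 46
  (Net.cons 4 0x70902
  (Net.cons 2 0x302120
  (Net.cons 1 0x504550
  (Net.nil)))))))))

noncomputable def u1_0 : Net :=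
  Net.cons 1 0x55410
  (Net.cons 2 0x330200
  (Net.cons 4 0x40200
  (Net.cons 8 17
  (Net.cons 16 223
  (Net.cons 8 14
  (Net.cons 4 520
  (Net.cons 2 0x311212
  (Net.cons 1 0x4051
  (Net.nil)))))))))

noncomputable def u1_1 : Net :=
  Net.cons 1 0x554514
  (Net.cons 2 0x11200
  (Net.cons 4 0x50400
  (Net.cons 8 42
  (Net.cons 16 250
  (Net.cons 8 60
  (Net.cons 4 0xd0f05
  (Net.cons 2 0x222113
  (Net.cons 1 0x445011
  (Net.nil)))))))))

noncomputable def u2_0 : Net :=
  Net.cons 1 0x11514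
  (Net.cons 2 0x20100
  (Net.cons 4 0x50400
  (Net.cons 8 73
  (Net.cons 16 77
  (Net.cons 8 134
  (Net.cons 4 0x908
  (Net.cons 2 0x31111
  (Net.cons 1 0x111054
  (Net.nil)))))))))

noncomputable def u2_1 : Net :=
  Net.cons 1 0x154104
  (Net.cons 2 0x203020
  (Net.cons 4 0x600
  (Net.cons 8 144
  (Net.cons 16 153
  (Net.cons 8 248
  (Net.cons 4 0x10f00
  (Net.cons 2 0x221003
  (Net.cons 1 0x51140
  (Net.nil)))))))))

noncomputable def u3_0 : Net :=
  Net.cons 1 0x154104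
  (Net.cons 2 0x203020
  (Net.cons 4 0x600
  (Net.cons 8 144
  (Net.cons 16 153
  (Net.cons 8 248
  (Net.cons 4 0x10f00
  (Net.cons 2 0x221003
  (Net.cons 1 0x51140
  (Net.nil)))))))))

noncomputable def u3_1 : Net :=
  Net.cons 1 0x141504
  (Net.cons 2 0x110300
  (Net.cons 4 0x40400
  (Net.cons 8 64
  (Net.cons 16 102
  (Net.cons 8 98
  (Net.cons 4 0x2070c
  (Net.cons 2 0x131102
  (Net.cons 1 0x45441
  (Net.nil)))))))))

noncomputable def u4_0 : Net :=
  Net.cons 1 0x10010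
  (Net.cons 2 0x32300
  (Net.cons 4 0xb0100
  (Net.cons 8 2
  (Net.cons 16 146
  (Net.cons 8 216
  (Net.cons 4 0xa0909
  (Net.cons 2 0x31301
  (Net.cons 1 0x110411
  (Net.nil)))))))))

noncomputable def u4_1 : Net :=
  Net.cons 1 0x100450
  (Net.cons 2 0x202310
  (Net.cons 4 0xd0000
  (Net.cons 8 88
  (Net.cons 16 90
  (Net.cons 8 147
  (Net.cons 4 0xc0809
  (Net.cons 2 0x200310
  (Net.cons 1 0x100450
  (Net.nil)))))))))

noncomputable def u4_2 : Net :=
  Net.cons 1 0x151404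
  (Net.cons 2 0x110020
  (Net.cons 4 0x40600
  (Net.cons 8 4
  (Net.cons 16 6
  (Net.cons 8 130
  (Net.cons 4 0x20c0e
  (Net.cons 2 0x131201
  (Net.cons 1 0x45401
  (Net.nil)))))))))

noncomputable def u5_0 : Net :=
  Net.cons 1 0x110500
  (Net.cons 2 0x2000
  (Net.cons 4 0x20400
  (Net.cons 16 7
  (Net.cons 8 140
  (Net.cons 4 0x10d08
  (Net.cons 2 256
  (Net.cons 1 0x110540
  (Net.nil))))))))

noncomputable def u6_0 : Net :=
  Net.cons 1 0x555004
  (Net.cons 2 0x320300
  (Net.cons 4 0x40300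
  (Net.cons 8 72
  (Net.cons 16 206
  (Net.cons 8 60
  (Net.cons 4 0xe0e07
  (Net.cons 2 0x322332
  (Net.cons 1 0x505401
  (Net.nil)))))))))

noncomputable def s0_0 : ℕ := 0x7fffff
noncomputable def s4_0 : ℕ := 0xc8a118
noncomputable def V0 : List Net := [u0_0, u0_1, u0_2]
noncomputable def U0 : List Net := (V0 ++ revL V0)
noncomputable def V1 : List Net := [u1_0, u1_1]
noncomputable def U1 : List Net := U0 ++ (V1 ++ revL V1)
noncomputable def V2 : List Net := [u2_0, u2_1]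
noncomputable def U2 : List Net := U1 ++ (V2 ++ revL V2)
noncomputable def V3 : List Net := [u3_0, u3_1]
noncomputable def U3 : List Net := U2 ++ (V3 ++ revL V3)
noncomputable def V4 : List Net := [u4_0, u4_1, u4_2]
noncomputable def U4 : List Net := U3 ++ (V4 ++ revL V4)
noncomputable def V5 : List Net := [u5_0]
noncomputable def U5 : List Net := U4 ++ (V5 ++ revL V5)
noncomputable def V6 : List Net := [u6_0]
noncomputable def U6 : List Net := U5 ++ (V6 ++ revL V6)
noncomputable def Wr : List Net := ((((((revL V0) ++ (V1 ++ revL V1)) ++ (V2 ++ revL V2)) ++ (V3 ++ revL V3)) ++ (V4 ++ revL V4)) ++ (V5 ++ revL V5)) ++ (V6 ++ revL V6)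
noncomputable def W : List Net := u0_0 :: u0_1 :: u0_2 :: Wr

noncomputable def lev5 : Lev := (9, 1, [24, 25], 0x3000000, [])
noncomputable def L5 : List Lev := lev5 :: []
noncomputable def lev4 : Lev := (5, 1, [18, 19, 20, 21, 22, 23], 0x3fc0000, [s4_0])
noncomputable def L4 : List Lev := lev4 :: L5
noncomputable def lev3 : Lev := (8, 2, [14, 15, 16, 17], 0x3ffc000, [])
noncomputable def L3 : List Lev := lev3 :: L4
noncomputable def lev2 : Lev := (22, 2, [10, 11, 12, 13], 0x3fffc00, [])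
noncomputable def L2 : List Lev := lev2 :: L3
noncomputable def lev1 : Lev := (19, 2, [6, 7, 8, 9], 0x3ffffc0, [])
noncomputable def L1 : List Lev := lev1 :: L2
noncomputable def lev0 : Lev := (4, 2, [0, 1, 2, 3, 4, 5], 0x3ffffff, [s0_0])
noncomputable def L0 : List Lev := lev0 :: L1
noncomputable def D : OD where
  r := 23
  u := 1
  J := [1, 22]
  K := [0, 0, 10, 3, 9, 5, 2, 7, 8, 6, 4, 1, 1, 4, 6, 8, 7, 2, 5, 9, 3, 10, 0]
  wl := 2
  wt := 0x20202
  m := 11
  V := [0]
  pa := [1, 4]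
  pl := [0, 2, 0x202, 0x20202, 0x2020202, 0x202020202, 0x505050505, 0x5050505, 0x50505, 0x505, 5]
  R := [(0x2010302, 5)]
  P := [4]
  S := [0]
noncomputable def ma : List (ℕ × ℕ) := [(26, 1), (27, 22)]
noncomputable def ml : List (ℕ × ℕ) := [(1, 1), (4, 10)]

end CfsgLib.MultC.M23.O
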